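import Groth.Agent.AVAmple.Translate
import Groth.Agent.AffHull.LinAct
import Groth.Agent.Chev.AntiAff
import Groth.Agent.Chev.Structure
import Groth.Agent.Chev.BorelTools
import Groth.Agent.Chev.TorsorMap
import Groth.Agent.SpecialExt.Basic
import Groth.Agent.PerfPush.H0
import Groth.Agent.S3293
import Groth.Prelude.Def_ChGrp

/-!
# Faithful actions fixing an ample class
-/

set_option autoImplicit false
set_option backward.isDefEq.respectTransparency false
set_option backward.isDefEq.respectTransparency.types false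
set_option linter.style.haveILetI false
set_option maxHeartbeats 1000000

universe u

open CategoryTheory CategoryTheory.Limits MonoidalCategory CartesianMonoidalCategory MonObj GrpObj AlgebraicGeometry
open Groth.Agent.Chev
open Groth.Agent.W7Cube (pull pc)

noncomputable section

namespace Groth.Agent.FixAmple

attribute [local instance] W7Cube.law

variable {k : Type u} [Field k] [IsAlgClosed k]

/-- Only constants on proper connected reduced schemes. -/
theorem isAnti_of_proper (A : Over (Spec (CommRingCat.of k))) [IsProper A.hom] [IsReduced A.left]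
    [ConnectedSpace A.left] : IsAnti A := by
  haveI : IsIso A.hom.appTop :=
    (ConcreteCategory.isIso_iff_bijective _).2 (PerfPush.bijective_appTop_of_algClosed A.hom)
  exact ConcreteCategory.bijective_of_isIso _

/-- A morphism from an abelian variety pulling back an ample sheaf to a translation invariant one is constant. -/
theorem eq_const_of_invariant {A X : Over (Spec (CommRingCat.of k))} [GrpObj A] [IsProper A.hom]
    [GeometricallyIntegral A.hom] (o : A ⟶ X) {L : X.left.Modules} (hL : CohB1.IsAmple L)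
    (h : ∀ a : 𝟙_ (Over (Spec (CommRingCat.of k))) ⟶ A, Nonempty ((Scheme.Modules.pullback (𝟙 A * (toUnit A ≫ a)).left).obj
      ((Scheme.Modules.pullback o.left).obj L) ≅ (Scheme.Modules.pullback o.left).obj L)) :
    o = toUnit A ≫ η[A] ≫ o := by
  haveI : Subsingleton (Spec (CommRingCat.of k)) := inferInstanceAs (Subsingleton (PrimeSpectrum k))
  haveI : IsIntegral A.left := GeometricallyIntegral.isIntegral_of_subsingleton A.hom
  set c := PicGrp.cls _ (PicLoc.isInvertible_pullback o.left hL.1) with hc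
  have hadd := AVAmple.additive_of_invariant c (𝟙 A) fun y hy => by
    obtain ⟨b, hb⟩ := AVAmple.exists_point (A := A) hy
    refine ⟨b, hb, ?_⟩
    rw [Category.comp_id, W7Cube.pc, hc, W7Cube.pull_cls]
    exact (PicGrp.cls_eq_cls_iff _ _).2 (h b)
  have hneg := congrArg (pull (lift (𝟙 A)⁻¹ (𝟙 A)).left) hadd
  rw [Category.comp_id, map_mul, W7Cube.pull_pc, W7Cube.pull_pc, W7Cube.pull_pc, MonObj.comp_mul, lift_fst, lift_snd,
    inv_mul_cancel, W7Cube.pc_one, W7Cube.pc_id] at hneg
  let v : A ⟶ X := (𝟙 A)⁻¹ ≫ o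
  obtain ⟨m, s, hes, hU⟩ := hL.2.2 (o.left (η[A].left (IsLocalRing.closedPoint k)))
  have hLm := TMul.isInvertible_tensorPow hL.1 (m + 1)
  let L₁ := (Scheme.Modules.pullback v.left).obj (CohB1.tensorPow L (m + 1))
  let L₂ := (Scheme.Modules.pullback o.left).obj (CohB1.tensorPow L (m + 1))
  have h₁ := PicLoc.isInvertible_pullback v.left hLm
  have h₂ := PicLoc.isInvertible_pullback o.left hLm
  obtain ⟨ρ⟩ : Nonempty (CohB1.tensorMod L₁ L₂ ≅ Coh.structureModule A.left) := by
    rw [← PicGrp.cls_eq_one_iff (hL := TMul.isInvertible_tensorMod h₁ h₂)]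
    have hpow : PicGrp.cls _ hLm = (PicGrp.cls L hL.1) ^ (m + 1) :=
      Subtype.ext (PicGrp.cls_pow_val hL.1 (m + 1)).symm
    have e1 : PicGrp.cls _ (TMul.isInvertible_tensorMod h₁ h₂) = PicGrp.cls _ h₁ * PicGrp.cls _ h₂ :=
      Subtype.ext (PicGrp.mul_val (PicGrp.cls _ h₁) (PicGrp.cls _ h₂)).symm
    have e2 : pull v.left (PicGrp.cls L hL.1) = pc c (𝟙 A)⁻¹ := by
      rw [W7Cube.pc, hc, ← W7Cube.pull_cls o.left L hL.1]
      exact (W7Cube.pull_pull _ _ _).symm
    have e3 : pull o.left (PicGrp.cls L hL.1) = c := W7Cube.pull_cls o.left L hL.1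
    rw [e1, ← W7Cube.pull_cls v.left _ hLm, ← W7Cube.pull_cls o.left _ hLm, hpow, map_pow, map_pow, ← mul_pow, e2, e3,
      ← hneg, one_pow]
  let s₁ := (PicLoc.pullbackStructureIso v.left).symm.hom ≫ (Scheme.Modules.pullback v.left).map s
  let s₂ := (PicLoc.pullbackStructureIso o.left).symm.hom ≫ (Scheme.Modules.pullback o.left).map s
  let t := SecTwist.tmulHom s₁ s₂ ≫ ρ.hom
  have ht : CohB1.genLocus _ t = v.left ⁻¹ᵁ CohB1.genLocus _ s ⊓ o.left ⁻¹ᵁ CohB1.genLocus _ s :=
    (TMul.genLocus_comp _ ρ.hom).trans ((TMul.genLocus_tmulHom h₁ h₂ s₁ s₂).trans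
      (congrArg₂ (· ⊓ ·) (TMul.genLocus_pullback _ hLm s _) (TMul.genLocus_pullback _ hLm s _)))
  have hv : v.left (η[A].left (IsLocalRing.closedPoint k)) = o.left (η[A].left (IsLocalRing.closedPoint k)) := by
    have e : η[A] ≫ v = η[A] ≫ o := by
      show η[A] ≫ (𝟙 A)⁻¹ ≫ o = η[A] ≫ o
      rw [← Category.assoc, GrpObj.comp_inv, Category.comp_id, show (η[A])⁻¹ = η[A] from inv_one]
    rw [← Scheme.Hom.comp_apply, ← Over.comp_left, ← Scheme.Hom.comp_apply, ← Over.comp_left, e]
  have he : η[A].left (IsLocalRing.closedPoint k) ∈ CohB1.genLocus _ t :=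
    ht.ge (by exact ⟨show v.left _ ∈ CohB1.genLocus _ s by rw [hv]; exact hes, hes⟩)
  have htop := S14809.genLocus_unit_top (X := A.left) (isField_of_universallyClosed k A.hom) t he
  have hr : Set.range o.left ⊆ Set.range (CohB1.genLocus (CohB1.tensorPow L (m + 1)) s).ι := by
    rw [Scheme.Opens.range_ι]
    rintro _ ⟨x, rfl⟩
    exact (ht.le (htop.ge (show x ∈ (⊤ : A.left.Opens) from trivial))).2
  let U : Over (Spec (CommRingCat.of k)) := Over.mk ((CohB1.genLocus (CohB1.tensorPow L (m + 1)) s).ι ≫ X.hom)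
  haveI : IsAffine U.left := hU
  let f : A ⟶ U := Over.homMk (IsOpenImmersion.lift _ o.left hr) (by
    show IsOpenImmersion.lift _ o.left hr ≫ _ ≫ X.hom = _
    rw [IsOpenImmersion.lift_fac_assoc, Over.w])
  let j : U ⟶ X := Over.homMk (CohB1.genLocus (CohB1.tensorPow L (m + 1)) s).ι rfl
  have hfj : f ≫ j = o := Over.OverMorphism.ext (IsOpenImmersion.lift_fac _ _ _)
  have hf := AffHull.eq_const_of_affine (isAnti_of_proper A) η[A] f
  rw [← hfj]
  conv_lhs => rw [hf]
  simp only [Category.assoc]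

/-- A connected group acting faithfully on a proper variety and fixing an ample class at rational points is affine. -/
theorem isAffine_of_connected {G X : Over (Spec (CommRingCat.of k))} [GrpObj G] [Smooth G.hom] [QuasiCompact G.hom]
    [ConnectedSpace G.left] [IsIntegral X.left] [IsProper X.hom] (a : AlgGrp.Action G X)
    (hfaith : ∀ (T : Over (Spec (CommRingCat.of k))) (g : T ⟶ G),
      lift (fst T X ≫ g) (snd T X) ≫ a.act = snd T X → g = toUnit T ≫ η[G])
    {L : X.left.Modules} (hLa : CohB1.IsAmple L)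
    (hfix : ∀ g : 𝟙_ (Over (Spec (CommRingCat.of k))) ⟶ G,
      Nonempty ((Scheme.Modules.pullback (lift (toUnit X ≫ g) (𝟙 X) ≫ a.act).left).obj L ≅ L)) :
    IsAffine G.left := by
  obtain ⟨hQ, D, hD, d, hqm, hqf, hqs, hql, hQl, hdm, hdc, hker, hanti, hDl, hDq⟩ := exists_anti_kernel G
  letI := hQ
  haveI := hqm; haveI := hqf; haveI := hqs; haveI := hql; haveI := hdm; haveI := hdc; haveI := hDl; haveI := hDq
  obtain ⟨hDc, hDcomm⟩ := Groth.Agent.S3293.result k D hanti
  haveI := hDc; haveI := hDcomm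
  haveI := smooth_of_anti D hanti
  obtain ⟨M, hM, l, A, hA, qA, hlm, hlc, hla, hls, hlcon, -, hqAm, hqAs, hqAf, hkA, hAp, hAs, hAcon⟩ :=
    exists_structure D
  haveI := hlm; haveI := hlc; haveI := hla; haveI := hls; haveI := hlcon; haveI := hqAm; haveI := hqAs; haveI := hqAf
  haveI := hAp; haveI := hAs; haveI := hAcon
  haveI : GeometricallyIntegral A.hom := geometricallyIntegral_of_group
  haveI : QuasiCompact qA.left := by
    haveI : QuasiCompact (qA.left ≫ A.hom) := by rw [Over.w qA]; infer_instance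
    exact QuasiCompact.of_comp qA.left A.hom
  haveI : Nonempty X.left := inferInstance
  let b : AlgGrp.Action D X := BorelFixed.resAction d a
  haveI : Mono l := GrpField.SchImg.mono_of_isClosedImmersion l
  haveI : Group.IsSolvable (Chev.RP M) := Group.isSolvable_of_comm fun x y => by
    rw [← cancel_mono l, MonObj.mul_comp, MonObj.mul_comp]
    exact mul_comm (G := (𝟙_ (Over (Spec (CommRingCat.of k))) ⟶ D)) _ _
  obtain ⟨x, hx⟩ := BorelFixed.exists_fixed M X (BorelFixed.resAction l b)
  have hxl : ∀ (T : Over (Spec (CommRingCat.of k))) (z : T ⟶ M), lift (z ≫ l) (toUnit T ≫ x) ≫ b.act = toUnit T ≫ x := by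
    intro T z
    have := hx T z
    change lift z _ ≫ (l ▷ X) ≫ b.act = _ at this
    rwa [lift_whiskerRight_assoc] at this
  let orb : D ⟶ X := lift (𝟙 D) (toUnit D ≫ x) ≫ b.act
  have horb : ∀ (T : Over (Spec (CommRingCat.of k))) (z : T ⟶ D), z ≫ orb = lift z (toUnit T ≫ x) ≫ b.act := by
    intro T z
    rw [← Category.assoc, comp_lift, Category.comp_id, ← Category.assoc, toUnit_unique (z ≫ toUnit D) (toUnit T)]
  have hinv : ∀ (T : Over (Spec (CommRingCat.of k))) (z z' : T ⟶ D), z ≫ qA = z' ≫ qA → z ≫ orb = z' ≫ orb := by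
    intro T z z' e
    have h1 : (z⁻¹ * z') ≫ qA = 1 := by
      rw [MonObj.mul_comp, GrpObj.inv_comp, e, inv_mul_cancel]
    obtain ⟨n, hn⟩ : ∃ n : T ⟶ M, n ≫ l = z⁻¹ * z' :=
      ⟨hkA.lift (z⁻¹ * z') (toUnit _) (by rw [h1]; rfl), hkA.lift_fst _ _ _⟩
    have hz' : z' = z * (n ≫ l) := by rw [hn, mul_inv_cancel_left]
    rw [horb, horb, hz', AlgGrp.Action.lift_mul_act, hxl]
  obtain ⟨o, ho⟩ := SpecialExt.exists_desc qA orb hinv
  -- the invariance
  have hL2 : ∀ p : 𝟙_ (Over (Spec (CommRingCat.of k))) ⟶ A,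
      Nonempty ((Scheme.Modules.pullback (𝟙 A * (toUnit A ≫ p)).left).obj ((Scheme.Modules.pullback o.left).obj L) ≅
        (Scheme.Modules.pullback o.left).obj L) := by
    intro p
    obtain ⟨z, hz⟩ := Borel.exists_rp_preimage qA p
    obtain ⟨i⟩ := hfix (z ≫ d)
    let t : X ⟶ X := lift (toUnit X ≫ z ≫ d) (𝟙 X) ≫ a.act
    have hcomm : (𝟙 A * (toUnit A ≫ p)) ≫ o = o ≫ t := by
      apply SpecialExt.cancel_cover qA
      have h1 : qA ≫ (𝟙 A * (toUnit A ≫ p)) = ((toUnit D ≫ z) * 𝟙 D) ≫ qA := by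
        rw [_root_.mul_comm (toUnit D ≫ z) (𝟙 D), MonObj.comp_mul, MonObj.mul_comp, Category.comp_id, Category.id_comp,
          Category.assoc, hz, ← Category.assoc, toUnit_unique (qA ≫ toUnit A) (toUnit D)]
      rw [reassoc_of% h1, ho, horb, AlgGrp.Action.lift_mul_act, reassoc_of% ho]
      change lift (toUnit D ≫ z) _ ≫ b.act = orb ≫ lift (toUnit X ≫ z ≫ d) (𝟙 X) ≫ a.act
      rw [comp_lift_assoc, Category.comp_id, ← Category.assoc orb, toUnit_unique (orb ≫ toUnit X) (toUnit D),
        ← Category.assoc]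
      change lift (toUnit D ≫ z) orb ≫ (d ▷ X) ≫ a.act = _
      rw [lift_whiskerRight_assoc]
    exact ⟨(Scheme.Modules.pullbackComp _ _).app L ≪≫
      (Scheme.Modules.pullbackCongr (show (𝟙 A * (toUnit A ≫ p)).left ≫ o.left = o.left ≫ t.left from
        congr(($hcomm).left))).app L ≪≫
      ((Scheme.Modules.pullbackComp _ _).app L).symm ≪≫ (Scheme.Modules.pullback o.left).mapIso i⟩
  have hoc := eq_const_of_invariant o hLa hL2
  have hfx : b.IsFixedPt x := by
    intro T g
    rw [← horb, ← ho, hoc]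
    have e : η[A] ≫ o = x := by
      rw [← IsMonHom.one_hom (f := qA), Category.assoc, ho, horb, toUnit_unit, Category.id_comp]
      have := b.lift_one_act x
      rwa [Hom.one_def, toUnit_unit, Category.id_comp] at this
    rw [e]
    simp only [← Category.assoc]
    rw [toUnit_unique ((g ≫ qA) ≫ toUnit A) (toUnit T)]
  have htriv := AffHull.act_eq_snd hanti b x hfx
  have hd : d = 1 := by
    rw [hfaith D d ?_, Hom.one_def]
    change lift (fst D X ≫ d) (snd D X) ≫ a.act = snd D X
    have h2 : b.act = lift (fst D X ≫ d) (snd D X) ≫ a.act := by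
      change (d ▷ X) ≫ a.act = _
      congr 1
    rw [← h2, htriv]
  let q : G ⟶ AffHull.hull G := AffHull.toHull G
  haveI : IsAffine (AffHull.hull G).left := inferInstanceAs (IsAffine (Spec _))
  haveI : QuasiCompact q.left := by
    haveI : QuasiCompact (q.left ≫ (AffHull.hull G).hom) := by rw [Over.w q]; infer_instance
    exact QuasiCompact.of_comp q.left (AffHull.hull G).hom
  haveI : Flat q.left := hqf
  haveI : Surjective q.left := hqs
  obtain ⟨r, hr⟩ := SpecialExt.exists_desc q (𝟙 G) fun T z z' e => by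
    rw [Category.comp_id, Category.comp_id]
    have h1 : (z⁻¹ * z') ≫ q = 1 := by
      rw [MonObj.mul_comp, GrpObj.inv_comp, e, inv_mul_cancel]
    obtain ⟨n, h2⟩ : ∃ n : T ⟶ D, n ≫ d = z⁻¹ * z' :=
      ⟨hker.lift (z⁻¹ * z') (toUnit _) (by rw [h1]; rfl), hker.lift_fst _ _ _⟩
    have h3 : n ≫ d = 1 := (congrArg (n ≫ ·) hd).trans (MonObj.comp_one n)
    rw [h3] at h2
    exact inv_mul_eq_one.1 h2.symm
  have hrq : r ≫ q = 𝟙 _ := SpecialExt.cancel_cover q (by rw [reassoc_of% hr, Category.comp_id])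
  haveI : IsIso q := ⟨r, hr, hrq⟩
  haveI : IsIso q.left := inferInstanceAs (IsIso ((Over.forget _).map q))
  exact IsAffine.of_isIso q.left

end Groth.Agent.FixAmple
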